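import Groth.Prelude.Def_SGA1t
import Groth.Agent.WeakUnram.TameGalois
import Groth.Agent.S5090
import Mathlib.AlgebraicGeometry.Morphisms.FormallyUnramified
import Mathlib.AlgebraicGeometry.Morphisms.Etale
import Mathlib.FieldTheory.Galois.Basic

/-! Residue field extensions of covers with a simply transitive group action. -/

set_option autoImplicit false
set_option backward.isDefEq.respectTransparency false
set_option linter.style.haveILetI false

universe u v
open CategoryTheory CategoryTheory.Limits AlgebraicGeometry

namespace Groth.Agent.PrincTameLib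

theorem finite_residueFieldMap {X Y : Scheme.{u}} (f : X ⟶ Y) [FormallyUnramified f] [LocallyOfFiniteType f] (x : X) :
    letI : Algebra (Y.residueField (f.base x)) (X.residueField x) := (f.residueFieldMap x).hom.toAlgebra
    Module.Finite (Y.residueField (f.base x)) (X.residueField x) := by
  letI : Algebra (Y.residueField (f.base x)) (X.residueField x) := (f.residueFieldMap x).hom.toAlgebra
  haveI hsep : Algebra.IsSeparable (Y.residueField (f.base x)) (X.residueField x) := inferInstance
  have h1 : (f.residueFieldMap x).hom.EssFiniteType := by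
    have h2 := (LocallyOfFiniteType.stalkMap f x)
    have h3 : ((X.residue x).hom.comp (f.stalkMap x).hom).EssFiniteType :=
      h2.comp (RingHom.FiniteType.of_surjective (X.residue x).hom (X.residue_surjective x)).essFiniteType
    have e : (X.residue x).hom.comp (f.stalkMap x).hom = (f.residueFieldMap x).hom.comp (Y.residue (f.base x)).hom :=
      congrArg CommRingCat.Hom.hom (Scheme.residue_residueFieldMap f x).symm
    rw [e] at h3
    exact RingHom.EssFiniteType.of_comp (Y.residue (f.base x)).hom h3
  haveI : Algebra.EssFiniteType (Y.residueField (f.base x)) (X.residueField x) := h1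
  haveI : Algebra.FormallyUnramified (Y.residueField (f.base x)) (X.residueField x) :=
    Algebra.FormallyUnramified.of_isSeparable _ _
  exact Algebra.FormallyUnramified.finite_of_free _ _

/-- The points of an extension attached to a group with simply transitive action on geometric points. -/
theorem isGalois_residueField {Z Y : Scheme.{u}} (h : Z ⟶ Y) [FormallyUnramified h] [LocallyOfFiniteType h]
    {C : Type v} [Group C] [Finite C] (T : C → (Z ⟶ Z)) (hT1 : T 1 = 𝟙 Z) (hTmul : ∀ a b, T (a * b) = T b ≫ T a)
    (hTh : ∀ a, T a ≫ h = h)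
    (hst : ∀ (Ω : Type u) [Field Ω] [IsAlgClosed Ω] (s t : Spec (CommRingCat.of Ω) ⟶ Z),
      s ≫ h = t ≫ h → ∃! a, s ≫ T a = t)
    (w : Z) :
    letI : Algebra (Y.residueField (h.base w)) (Z.residueField w) := (h.residueFieldMap w).hom.toAlgebra
    IsGalois (Y.residueField (h.base w)) (Z.residueField w) ∧
      Module.finrank (Y.residueField (h.base w)) (Z.residueField w) ∣ Nat.card C := by
  letI : Algebra (Y.residueField (h.base w)) (Z.residueField w) := (h.residueFieldMap w).hom.toAlgebra
  haveI : Algebra.IsSeparable (Y.residueField (h.base w)) (Z.residueField w) := inferInstance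
  haveI := finite_residueFieldMap h w
  let K := Y.residueField (h.base w)
  let F := Z.residueField w
  let Ω := AlgebraicClosure F
  let H : Subgroup C :=
    { carrier := {a | (T a).base w = w}
      one_mem' := by show (T 1).base w = w; rw [hT1]; rfl
      mul_mem' := fun {a b} ha hb => by
        show (T (a * b)).base w = w
        rw [hTmul, Scheme.Hom.comp_apply]
        exact (congrArg (T a).base (show (T b).base w = w from hb)).trans ha
      inv_mem' := fun {a} ha => by
        show (T a⁻¹).base w = w
        have h1 : (T a⁻¹).base ((T a).base w) = w := by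
          rw [← Scheme.Hom.comp_apply, ← hTmul, inv_mul_cancel, hT1]; rfl
        rwa [show (T a).base w = w from ha] at h1 }
  let ιw := Z.fromSpecResidueField w
  have hfac : ∀ a : H, ∃ σ : F →ₐ[K] F, Spec.map (CommRingCat.ofHom σ.toRingHom) ≫ ιw = ιw ≫ T a.1 := by
    rintro ⟨a, ha⟩
    let φ : Z.residueField w ⟶ Z.residueField w :=
      (Z.residueFieldCongr (show (T a).base w = w from ha)).inv ≫ (T a).residueFieldMap w
    have hφ : Spec.map φ ≫ ιw = ιw ≫ T a := by
      rw [Spec.map_comp, Category.assoc, ← (T a).SpecMap_residueFieldMap_fromSpecResidueField]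
      congr 1
      rw [← cancel_epi (Spec.map (Z.residueFieldCongr (show (T a).base w = w from ha)).hom), ← Spec.map_comp_assoc,
        Iso.inv_hom_id, Spec.map_id, Category.id_comp, Scheme.residueFieldCongr_fromSpecResidueField]
    have hK : h.residueFieldMap w ≫ φ = h.residueFieldMap w := by
      apply Spec.map_injective
      rw [Spec.map_comp, ← cancel_mono (Y.fromSpecResidueField (h.base w)), Category.assoc,
        h.SpecMap_residueFieldMap_fromSpecResidueField, ← Category.assoc, hφ, Category.assoc, hTh]
    exact ⟨{ φ.hom with commutes' := fun r => ConcreteCategory.congr_hom hK r }, hφ⟩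
  choose ψ hψ using hfac
  let i : F →ₐ[K] Ω := IsScalarTower.toAlgHom K F Ω
  let pt : (F →ₐ[K] Ω) → (Spec (CommRingCat.of Ω) ⟶ Z) := fun s =>
    Spec.map (CommRingCat.ofHom s.toRingHom) ≫ ιw
  have hpt : ∀ s t : F →ₐ[K] Ω, pt s ≫ h = pt t ≫ h := fun s t => by
    simp only [pt, ιw, Category.assoc, ← h.SpecMap_residueFieldMap_fromSpecResidueField, ← Spec.map_comp_assoc]
    congr 2
    exact CommRingCat.hom_ext (s.comp_algebraMap.trans t.comp_algebraMap.symm)
  have hpt_inj : Function.Injective pt := fun s t e =>
    AlgHom.ext fun x => ConcreteCategory.congr_hom (Spec.map_injective ((cancel_mono ιw).1 e)) x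
  have hptψ : ∀ (a : H), pt (i.comp (ψ a)) = pt i ≫ T a.1 := fun a => by
    simp only [pt, Category.assoc]
    rw [← hψ a, ← Spec.map_comp_assoc]
    rfl
  let Φ : H → (F →ₐ[K] Ω) := fun a => i.comp (ψ a)
  have hΦ : Function.Bijective Φ := by
    refine ⟨fun a b e => Subtype.ext ?_, fun t => ?_⟩
    · obtain ⟨g, -, hu⟩ := hst Ω (pt i) (pt i ≫ T a.1) (((congrArg (fun m => pt i ≫ m) (hTh a.1)).symm).trans (Category.assoc _ _ _).symm)
      exact (hu a.1 rfl).trans (hu b.1 (((hptψ b).symm.trans (congrArg pt e.symm)).trans (hptψ a))).symm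
    · obtain ⟨g, hg, -⟩ := hst Ω (pt i) (pt t) (hpt i t)
      have hgw : (T g).base w = w := by
        obtain ⟨z⟩ := (inferInstance : Nonempty ↥(Spec (CommRingCat.of Ω)))
        have hz : ∀ s : F →ₐ[K] Ω, (pt s).base z = w := fun s => by
          simp only [pt, Scheme.Hom.comp_apply]
          exact Scheme.fromSpecResidueField_apply _ _
        have := congrArg (fun m : Spec (CommRingCat.of Ω) ⟶ Z => m.base z) hg
        simpa only [Scheme.Hom.comp_apply, hz] using this
      exact ⟨⟨g, hgw⟩, hpt_inj ((hptψ ⟨g, hgw⟩).trans hg)⟩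
  have hcard : Nat.card H = Module.finrank K F := by
    rw [Nat.card_congr (Equiv.ofBijective Φ hΦ), Nat.card_eq_fintype_card, AlgHom.card K F Ω]
  refine ⟨?_, hcard ▸ Subgroup.card_subgroup_dvd_card H⟩
  let ψ' : H → Gal(F/K) := fun a => AlgEquiv.ofBijective (ψ a) (Algebra.IsAlgebraic.algHom_bijective (ψ a))
  have hψ' : Function.Injective ψ' := fun a b e => hΦ.1 (AlgHom.ext fun x =>
    congrArg i (DFunLike.congr_fun e x))
  refine IsGalois.of_card_aut_eq_finrank K F (le_antisymm ?_ ?_)
  · rw [Nat.card_eq_fintype_card]; exact AlgEquiv.card_le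
  · rw [← hcard]; exact Nat.card_le_card_of_injective ψ' hψ'

end Groth.Agent.PrincTameLib
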